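/-
Conjugation inside a commutative group generated by root subgroups, characteristic two, simply laced
commutator relations: the bookkeeping of coordinates used by the classification of involutions.
-/
import Cfsg.Agent.Lib.Chev.CharTwo
import Cfsg.Agent.Lib.Chev.RootProducts

set_option autoImplicit false

namespace Cfsg.Agent.ChevInvol

open Cfsg.Lie Cfsg.Agent.Chev

/-- membership, fast for the kernel -/
def memB (a : ℕ) (l : List ℕ) : Bool := l.any fun b => Nat.beq a b

theorem memB_iff {a : ℕ} {l : List ℕ} : memB a l = true ↔ a ∈ l := by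
  simp [memB, List.any_eq_true]

/-- a list without repetitions, checked -/
def nodupB : List ℕ → Bool
  | [] => true
  | a :: l => !(memB a l) && nodupB l

theorem nodupB_iff : ∀ {l : List ℕ}, nodupB l = true → l.Nodup
  | [] => fun _ => List.nodup_nil
  | a :: l => by
    intro h
    simp only [nodupB, Bool.and_eq_true, Bool.not_eq_true'] at h
    refine List.nodup_cons.2 ⟨fun hm => ?_, nodupB_iff h.2⟩
    rw [memB_iff.2 hm] at h
    exact absurd h.1 (by simp)

variable (c : Cert)

/-- the commutator of x_r, x_s is trivial or one root element with the product parameter, in characteristic two -/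
noncomputable def adjOK (r s : ℕ) : Bool :=
  Nat.beq s r || (!(Nat.beq s (c.ng r)) &&
    (c.even2 r s || match c.comm r s with
      | [(_, m, a, b)] => !(intBeq (m % 2) 0) && Nat.beq a 1 && Nat.beq b 1
      | _ => false))

/-- the root of that commutator -/
noncomputable def nxt (r s : ℕ) : List ℕ :=
  cond (Nat.beq s r || c.even2 r s) [] ((c.comm r s).map Prod.fst)

/-- x_r and x_s commute -/
noncomputable def commB (r s : ℕ) : Bool := adjOK c r s && (nxt c r s).isEmpty

/-- roots and powers of the parameter in the conjugate of a root element under a product of root elements -/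
noncomputable def cl : List ℕ → ℕ → List (ℕ × ℕ)
  | [], b => [(b, 0)]
  | r :: m, b => (cl m b).flatMap fun x => x :: (nxt c r x.1).map fun k => (k, x.2 + 1)

/-- all steps of `cl` are admissible and stay in `Q` -/
noncomputable def clOK (Q : List ℕ) : List ℕ → ℕ → Bool
  | [], b => memB b Q
  | r :: m, b => clOK Q m b && allL (fun x : ℕ × ℕ => adjOK c r x.1 && allL (fun k => memB k Q) (nxt c r x.1)) (cl c m b)

/-- all contributions: source, target, degree -/
noncomputable def contrib (m Q : List ℕ) : List (ℕ × ℕ × ℕ) :=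
  Q.flatMap fun b => (cl c m b).map fun x => (b, x.1, x.2)

/-- pairwise commuting root elements -/
noncomputable def commL : List ℕ → Bool
  | [] => true
  | a :: l => allL (fun b => commB c a b) l && commL l

variable {c}

theorem clOK_mem {Q : List ℕ} : ∀ {m : List ℕ} {b : ℕ}, clOK c Q m b = true → ∀ x ∈ cl c m b, x.1 ∈ Q := by
  intro m
  induction m with
  | nil => intro b h x hx; simp only [cl, List.mem_singleton] at hx; subst hx; exact memB_iff.1 h
  | cons r m ih =>
    intro b h x hx
    simp only [clOK, Bool.and_eq_true, allL_iff, memB_iff] at h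
    simp only [cl, List.mem_flatMap, List.mem_cons, List.mem_map] at hx
    obtain ⟨y, hy, rfl | ⟨k, hk, rfl⟩⟩ := hx
    · exact ih h.1 _ hy
    · exact (h.2 y hy).2 k hk

variable {F : Type*} [Field F] {D : ChevalleyDatum}

/-- the product of x_r(t) over a list of roots -/
noncomputable def elT (D : ChevalleyDatum) (m : List ℕ) (t : F) : GL D.Idx F :=
  (m.map fun r => xg D F r t).prod

/-- the element with given coordinates on `Q` -/
noncomputable def qel (D : ChevalleyDatum) (Q : List ℕ) (v : ℕ → F) : GL D.Idx F :=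
  (Q.map fun b => xg D F b (v b)).prod

/-- the group generated by the root subgroups of a list of roots -/
def Hgrp (D : ChevalleyDatum) (F : Type*) [Field F] (L : List ℕ) : Subgroup (GL D.Idx F) :=
  Subgroup.closure {g | ∃ r ∈ L, ∃ t : F, g = xg D F r t}

theorem xg_mem_Hgrp {L : List ℕ} {r : ℕ} (hr : r ∈ L) (t : F) : xg D F r t ∈ Hgrp D F L :=
  Subgroup.subset_closure ⟨r, hr, t, rfl⟩

theorem Hgrp_mono {L L' : List ℕ} (h : ∀ r ∈ L, r ∈ L') : Hgrp D F L ≤ Hgrp D F L' :=
  Subgroup.closure_mono fun _ ⟨r, hr, t, e⟩ => ⟨r, h r hr, t, e⟩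

theorem elT_mem_Hgrp {L m : List ℕ} (hm : ∀ r ∈ m, r ∈ L) (t : F) : elT D m t ∈ Hgrp D F L := by
  refine Subgroup.list_prod_mem _ fun x hx => ?_
  obtain ⟨r, hr, rfl⟩ := List.mem_map.1 hx
  exact xg_mem_Hgrp (hm r hr) t

theorem Hgrp_le_group (hD : Good D) (L : List ℕ) : Hgrp D F L ≤ D.group F := by
  rw [Hgrp, Subgroup.closure_le]
  rintro _ ⟨r, -, t, rfl⟩
  exact hD.xg_mem_group r t

section
variable (hV : Valid D c) [CharP F 2]
include hV

omit [CharP F 2] in
theorem good' : Good D := ⟨c, hV⟩

theorem xg_sq (r : ℕ) (t : F) : xg D F r t * xg D F r t = 1 := by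
  rw [(good' hV).xg_add, CharTwo.add_self_eq_zero, (good' hV).xg_zero]

theorem xg_inv_self (r : ℕ) (t : F) : (xg D F r t)⁻¹ = xg D F r t :=
  inv_eq_of_mul_eq_one_right (xg_sq hV r t)

theorem xg_conj {r s : ℕ} (hr : r < D.nroots) (hs : s < D.nroots) (h : adjOK c r s = true) (t u : F) :
    xg D F r t * xg D F s u * xg D F r t =
      xg D F s u * ((nxt c r s).map fun k => xg D F k (t * u)).prod := by
  have hD := good' hV
  by_cases hsr : s = r
  · subst hsr
    simp only [nxt, Nat.beq_refl, Bool.true_or, cond_true, List.map_nil, List.prod_nil, mul_one,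
      hD.xg_add]
    rw [add_comm t u, add_assoc, CharTwo.add_self_eq_zero, add_zero]
  have hb : Nat.beq s r = false := by
    cases e : Nat.beq s r
    · rfl
    · exact absurd (Nat.eq_of_beq_eq_true e) hsr
  simp only [adjOK, hb, Bool.false_or, Bool.and_eq_true, Bool.not_eq_true'] at h
  obtain ⟨hng, h⟩ := h
  have hng' : s ≠ c.ng r := fun e => by rw [e, Nat.beq_refl] at hng; exact absurd hng (by simp)
  cases hev : c.even2 r s with
  | true =>
    simp only [nxt, hb, hev, Bool.false_or, cond_true, List.map_nil, List.prod_nil, mul_one]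
    rw [(hV.commute_xg hr hs (Or.inr ⟨hng', hev⟩) t u).eq, mul_assoc, xg_sq hV, mul_one]
  | false =>
    rw [hev, Bool.false_or] at h
    rcases hc : c.comm r s with _ | ⟨⟨k, m, a, b⟩, _ | ⟨y, l⟩⟩ <;> rw [hc] at h <;>
      simp only [Bool.false_eq_true, Bool.and_eq_true, Nat.beq_eq, Bool.not_eq_true'] at h
    obtain ⟨⟨hm, ha⟩, hb'⟩ := h
    subst ha; subst hb'
    have hm1 : (m : F) = 1 := by
      have h0 : m % 2 = 1 := by
        rcases Int.emod_two_eq_zero_or_one m with e | e
        · rw [e] at hm; simp [intBeq] at hm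
        · exact e
      have h2 : ((2 : ℤ) : F) = 0 := by simpa using CharTwo.two_eq_zero (R := F)
      rw [show m = 2 * (m / 2) + 1 by omega, Int.cast_add, Int.cast_mul, h2]
      simp
    have hk := hD.xg_comm hr hs hsr (by rw [hV.ng_eq hr]; exact hng') t u
    rw [ChevalleyDatum.commWord, hV.comm_eq hr hs, hc] at hk
    simp only [wordG, List.map_cons, List.map_nil, List.prod_cons, List.prod_nil, mul_one, pow_one, hm1,
      one_mul, CharTwo.neg_eq] at hk
    simp only [nxt, hb, hev, hc, Bool.false_or, cond_false, List.map_cons, List.map_nil, List.prod_cons,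
      List.prod_nil, mul_one]
    rw [mul_assoc, hk, ← mul_assoc, ← mul_assoc, xg_sq hV, one_mul]

theorem commute_of_commB {r s : ℕ} (hr : r < D.nroots) (hs : s < D.nroots) (h : commB c r s = true) (t u : F) :
    Commute (xg D F r t) (xg D F s u) := by
  simp only [commB, Bool.and_eq_true, List.isEmpty_iff] at h
  have := xg_conj hV hr hs h.1 t u
  rw [h.2, List.map_nil, List.prod_nil, mul_one] at this
  show _ = _
  rw [← mul_one (xg D F r t * xg D F s u), ← xg_sq hV r t, ← mul_assoc, this]

theorem commute_of_commL : ∀ {l : List ℕ}, (∀ a ∈ l, a < D.nroots) → commL c l = true →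
    ∀ a ∈ l, ∀ b ∈ l, ∀ t u : F, Commute (xg D F a t) (xg D F b u) := by
  intro l
  induction l with
  | nil => intro _ _ a ha; simp at ha
  | cons x l ih =>
    intro hl h a ha b hb t u
    simp only [commL, Bool.and_eq_true, allL_iff] at h
    have hx := hl x List.mem_cons_self
    rcases List.mem_cons.1 ha with rfl | ha'
    · rcases List.mem_cons.1 hb with rfl | hb'
      · show _ = _
        rw [(good' hV).xg_add, (good' hV).xg_add, add_comm]
      · exact commute_of_commB hV hx (hl b hb) (h.1 b hb') t u
    · rcases List.mem_cons.1 hb with rfl | hb'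
      · exact (commute_of_commB hV hx (hl a ha) (h.1 a ha') u t).symm
      · exact ih (fun y hy => hl y (List.mem_cons_of_mem _ hy)) h.2 a ha' b hb' t u

theorem elT_sq {m : List ℕ} (hm : ∀ a ∈ m, a < D.nroots) (h : commL c m = true) (t : F) :
    elT D m t * elT D m t = 1 := by
  induction m with
  | nil => simp [elT]
  | cons r m ih =>
    have hc := commute_of_commL hV hm h (F := F)
    have hh : commL c m = true := by simp only [commL, Bool.and_eq_true] at h; exact h.2
    have e : Commute (xg D F r t) (elT D m t) := Commute.list_prod_right _ _ fun x hx => by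
      obtain ⟨a, ha, rfl⟩ := List.mem_map.1 hx
      exact hc r List.mem_cons_self a (List.mem_cons_of_mem _ ha) t t
    have e1 : elT D (r :: m) t = xg D F r t * elT D m t := by simp [elT]
    rw [e1, mul_assoc, ← mul_assoc (elT D m t), ← e.eq, mul_assoc,
      ih (fun a ha => hm a (List.mem_cons_of_mem _ ha)) hh, mul_one, xg_sq hV]

theorem elT_inv {m : List ℕ} (hm : ∀ a ∈ m, a < D.nroots) (h : commL c m = true) (t : F) :
    (elT D m t)⁻¹ = elT D m t :=
  inv_eq_of_mul_eq_one_right (elT_sq hV hm h t)

theorem conj_xg {Q : List ℕ} (hQ : ∀ b ∈ Q, b < D.nroots) : ∀ {m : List ℕ}, (∀ a ∈ m, a < D.nroots) →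
    ∀ {b : ℕ}, clOK c Q m b = true → ∀ t u : F,
    elT D m t * xg D F b u * (elT D m t)⁻¹ =
      ((cl c m b).map fun x => xg D F x.1 (u * t ^ x.2)).prod := by
  intro m
  induction m with
  | nil => intro _ b _ t u; simp [elT, cl]
  | cons r m ih =>
    intro hm b h t u
    have hh := h
    simp only [clOK, Bool.and_eq_true, allL_iff] at h
    obtain ⟨h1, h2⟩ := h
    have hr := hm r List.mem_cons_self
    have e1 : elT D (r :: m) t = xg D F r t * elT D m t := by simp [elT]
    rw [e1, mul_inv_rev, ← mul_assoc, mul_assoc (xg D F r t), mul_assoc (xg D F r t),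
      ih (fun a ha => hm a (List.mem_cons_of_mem _ ha)) h1, xg_inv_self hV]
    have hmem := clOK_mem h1
    show _ = (((cl c m b).flatMap fun x => x :: (nxt c r x.1).map fun k => (k, x.2 + 1)).map _).prod
    generalize cl c m b = L at h2 hmem ⊢
    clear e1 hh h1
    induction L with
    | nil => simp [xg_sq hV]
    | cons x L ihL =>
      have hx := hQ _ (hmem x List.mem_cons_self)
      have hc := xg_conj hV hr hx (h2 x List.mem_cons_self).1 t (u * t ^ x.2)
      rw [List.map_cons, List.prod_cons, List.flatMap_cons, List.map_append, List.prod_append,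
        ← ihL (fun y hy => h2 y (List.mem_cons_of_mem _ hy)) fun y hy => hmem y (List.mem_cons_of_mem _ hy),
        List.map_cons, List.prod_cons, List.map_map]
      have e : ((nxt c r x.1).map ((fun y : ℕ × ℕ => xg D F y.1 (u * t ^ y.2)) ∘ fun k => (k, x.2 + 1))) =
          (nxt c r x.1).map fun k => xg D F k (t * (u * t ^ x.2)) := by
        refine List.map_congr_left fun k _ => ?_
        simp only [Function.comp_apply, pow_succ]
        congr 1
        ring
      rw [e, ← hc]
      simp only [mul_assoc]
      rw [← mul_assoc (xg D F r t) (xg D F r t), xg_sq hV, one_mul]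

section qel

variable {Q : List ℕ} (hQ : ∀ b ∈ Q, b < D.nroots)
  (hC : ∀ a ∈ Q, ∀ b ∈ Q, ∀ t u : F, Commute (xg D F a t) (xg D F b u))
include hQ hC

omit hV [CharP F 2] hQ in
theorem commute_qel {a : ℕ} (ha : a ∈ Q) (t : F) {L : List ℕ} (hL : ∀ b ∈ L, b ∈ Q) (v : ℕ → F) :
    Commute (xg D F a t) (qel D L v) :=
  Commute.list_prod_right _ _ fun x hx => by
    obtain ⟨b, hb, rfl⟩ := List.mem_map.1 hx
    exact hC a ha b (hL b hb) t _

theorem qel_add_aux (v w : ℕ → F) : ∀ L : List ℕ, (∀ b ∈ L, b ∈ Q) →
    qel D L v * qel D L w = qel D L fun j => v j + w j := by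
  intro L
  induction L with
  | nil => intro _; simp [qel]
  | cons a L ih =>
    intro hL
    have hL' : ∀ b ∈ L, b ∈ Q := fun b hb => hL b (List.mem_cons_of_mem _ hb)
    have e : ∀ z : ℕ → F, qel D (a :: L) z = xg D F a (z a) * qel D L z := fun z => by simp [qel]
    rw [e, e, e, mul_assoc, ← mul_assoc (qel D L v),
      ← (commute_qel hC (hL a List.mem_cons_self) (w a) hL' v).eq, mul_assoc (xg D F a (w a)), ih hL',
      ← mul_assoc, (good' hV).xg_add]

theorem qel_add (v w : ℕ → F) : qel D Q v * qel D Q w = qel D Q fun j => v j + w j :=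
  qel_add_aux hV hQ hC v w Q fun _ h => h

omit hC hQ in
theorem qel_zero (L : List ℕ) : qel D L (fun _ => (0 : F)) = 1 :=
  List.prod_eq_one fun x hx => by
    obtain ⟨b, -, rfl⟩ := List.mem_map.1 hx
    exact (good' hV).xg_zero b

omit hC hQ in
theorem qel_congr_zero {L : List ℕ} {v : ℕ → F} (h : ∀ j ∈ L, v j = 0) : qel D L v = 1 :=
  List.prod_eq_one fun x hx => by
    obtain ⟨b, hb, rfl⟩ := List.mem_map.1 hx
    rw [h b hb]; exact (good' hV).xg_zero b

omit hC hQ in
theorem qel_single : ∀ {L : List ℕ}, L.Nodup → ∀ {k : ℕ}, k ∈ L → ∀ u : F,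
    qel D L (fun j => if j = k then u else 0) = xg D F k u := by
  intro L
  induction L with
  | nil => intro _ k hk; simp at hk
  | cons a L ih =>
    intro hn k hk u
    rw [List.nodup_cons] at hn
    have e : ∀ z : ℕ → F, qel D (a :: L) z = xg D F a (z a) * qel D L z := fun z => by simp [qel]
    rw [e]
    rcases List.mem_cons.1 hk with rfl | hk
    · rw [if_pos rfl, qel_congr_zero hV fun j hj => if_neg fun h : j = k => hn.1 (h ▸ hj), mul_one]
    · rw [if_neg fun h : a = k => hn.1 (h ▸ hk), (good' hV).xg_zero, one_mul, ih hn.2 hk u]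

variable (hN : Q.Nodup)
include hN

theorem prod_eq_qel {α : Type*} : ∀ (L : List α) (k : α → ℕ) (u : α → F), (∀ x ∈ L, k x ∈ Q) →
    (L.map fun x => xg D F (k x) (u x)).prod =
      qel D Q fun j => (L.map fun x => if j = k x then u x else 0).sum := by
  intro L k u
  induction L with
  | nil => intro _; simp [qel_zero hV]
  | cons x L ih =>
    intro h
    rw [List.map_cons, List.prod_cons, ih fun y hy => h y (List.mem_cons_of_mem _ hy),
      ← qel_single hV hN (h x List.mem_cons_self) (u x), qel_add hV hQ hC]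
    simp only [List.map_cons, List.sum_cons]

theorem conj_qel {m : List ℕ} (hm : ∀ a ∈ m, a < D.nroots) (hok : ∀ b ∈ Q, clOK c Q m b = true) (t : F)
    (v : ℕ → F) :
    elT D m t * qel D Q v * (elT D m t)⁻¹ = qel D Q fun j =>
      ((contrib c m Q).map fun x => if j = x.2.1 then v x.1 * t ^ x.2.2 else 0).sum := by
  rw [← prod_eq_qel hV hQ hC hN (contrib c m Q) (fun x => x.2.1) (fun x => v x.1 * t ^ x.2.2) (by
    intro x hx
    simp only [contrib, List.mem_flatMap, List.mem_map] at hx
    obtain ⟨b, hb, y, hy, rfl⟩ := hx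
    exact clOK_mem (hok b hb) y hy)]
  have key : ∀ L : List ℕ, (∀ b ∈ L, b ∈ Q) → elT D m t * qel D L v * (elT D m t)⁻¹ =
      (((L.flatMap fun b => (cl c m b).map fun x => (b, x.1, x.2)) : List (ℕ × ℕ × ℕ)).map fun x =>
        xg D F x.2.1 (v x.1 * t ^ x.2.2)).prod := by
    intro L
    induction L with
    | nil => intro _; simp [qel]
    | cons b L ih =>
      intro hL
      have e : qel D (b :: L) v = xg D F b (v b) * qel D L v := by simp [qel]
      rw [e, ← conj_mul, conj_xg hV hQ hm (hok b (hL b List.mem_cons_self)),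
        ih fun a ha => hL a (List.mem_cons_of_mem _ ha), List.flatMap_cons, List.map_append, List.prod_append,
        List.map_map]
      rfl
  exact key Q fun _ h => h

end qel

end

end Cfsg.Agent.ChevInvol
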