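/-
The rank of `y - 1` for a product `y` of root elements in characteristic two, from a reduced echelon basis.
-/
import Cfsg.Agent.Lib.ChevInvol.Step
import Cfsg.Agent.Lib.Chev.Word

set_option autoImplicit false

namespace Cfsg.Agent.ChevInvol

open Cfsg.Lie Cfsg.Agent.Chev Matrix

/-- parity of an integer, as a test -/
def oddZ : ℤ → Bool
  | .ofNat a => Nat.beq (a % 2) 1
  | .negSucc a => Nat.beq (a % 2) 0

/-- the mask of an integral vector with constant coefficients, modulo two -/
def maskV : Vect → ℕ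
  | [] => 0
  | x :: l => cond (oddZ x.2.2) (Nat.xor (2 ^ x.1) (maskV l)) (maskV l)

/-- combination of the members selected by the bits of `sel` -/
def combo : List ℕ → ℕ → ℕ
  | [], _ => 0
  | a :: l, sel => cond (Nat.beq (sel % 2) 1) (Nat.xor a (combo l (sel / 2))) (combo l (sel / 2))

/-- combination of the basis members whose pivot is set in `x` -/
def pivCombo : List (ℕ × ℕ × ℕ) → ℕ → ℕ
  | [], _ => 0
  | b :: l, x => cond (x.testBit b.2.1) (Nat.xor b.1 (pivCombo l x)) (pivCombo l x)

variable (c : Cert)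

/-- the columns of `y - 1` -/
noncomputable def colMasks (L : List ℕ) : List ℕ :=
  (List.range (c.rank + c.nroots)).map fun i =>
    Nat.xor (2 ^ i) (maskV (c.evalWord false (L.map fun r => (r, [(1, (0, 0, 0))])) i))

/-- reduced echelon basis: members, pivots and expressions in the columns -/
noncomputable def rankOK (L : List ℕ) (B : List (ℕ × ℕ × ℕ)) : Bool :=
  let cols := colMasks c L
  allL (fun r => Nat.blt r c.nroots) L &&
  allL (fun x => Nat.beq (pivCombo B x) x) cols &&
  allL (fun b : ℕ × ℕ × ℕ => Nat.beq (combo cols b.2.2) b.1 && Nat.blt b.2.1 (c.rank + c.nroots) &&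
    allL (fun b' : ℕ × ℕ × ℕ => cond (Nat.beq b.2.1 b'.2.1) (b.1.testBit b'.2.1) (!(b.1.testBit b'.2.1))) B) B &&
  allLt B.length (fun i => allLt i fun j => !(Nat.beq (B.getD i (0, 0, 0)).2.1 (B.getD j (0, 0, 0)).2.1))

variable {c} {F : Type*} [Field F] [CharP F 2] {D : ChevalleyDatum}

/-- the vector of a mask -/
def bv (D : ChevalleyDatum) (F : Type*) [Field F] (x : ℕ) : D.Idx → F :=
  fun k => if x.testBit (idxNat k) = true then 1 else 0

omit [CharP F 2] in
theorem bv_zero : bv D F 0 = 0 := by funext k; simp [bv]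

theorem bv_xor (x y : ℕ) : bv D F (Nat.xor x y) = bv D F x + bv D F y := by
  funext k
  simp only [bv, Pi.add_apply]
  rw [show Nat.xor x y = x ^^^ y from rfl, Nat.testBit_xor]
  cases x.testBit (idxNat k) <;> cases y.testBit (idxNat k) <;> simp [CharTwo.add_self_eq_zero]

omit [CharP F 2] in
theorem bv_two_pow (i : ℕ) : bv D F (2 ^ i) = bvec D F i := by
  funext k
  simp [bv, bvec, Nat.testBit_two_pow, eq_comm]

theorem oddZ_cast (z : ℤ) : (z : F) = if oddZ z = true then 1 else 0 := by
  have h2 : ((2 : ℤ) : F) = 0 := by simpa using CharTwo.two_eq_zero (R := F)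
  have key : (z : F) = ((z % 2 : ℤ) : F) := by
    conv_lhs => rw [← Int.mul_ediv_add_emod z 2, Int.cast_add, Int.cast_mul, h2, zero_mul, zero_add]
  rw [key]
  rcases z with a | a
  · simp only [oddZ, Nat.beq_eq, Int.ofNat_eq_natCast]
    rcases Nat.mod_two_eq_zero_or_one a with h | h <;>
      rw [show ((a : ℤ) % 2) = ((a % 2 : ℕ) : ℤ) by omega, h] <;> simp
  · simp only [oddZ, Nat.beq_eq]
    rcases Nat.mod_two_eq_zero_or_one a with h | h
    · rw [show (Int.negSucc a % 2) = 1 by omega, h]; simp
    · rw [show (Int.negSucc a % 2) = 0 by omega, h]; simp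

theorem vecVal_mask (V : Vect) : vecVal D (1 : F) 1 1 V = bv D F (maskV V) := by
  induction V with
  | nil => simp [vecVal, maskV, bv_zero]
  | cons x l ih =>
    simp only [vecVal, List.map_cons, List.sum_cons] at ih ⊢
    rw [ih, maskV, oddZ_cast]
    cases h : oddZ x.2.2
    · simp
    · rw [cond_true, bv_xor, bv_two_pow]; simp [monVal]

theorem bv_combo : ∀ (l : List ℕ) (sel : ℕ) (S : Submodule F (D.Idx → F)), (∀ a ∈ l, bv D F a ∈ S) →
    bv D F (combo l sel) ∈ S := by
  intro l
  induction l with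
  | nil => intro sel S _; simp [combo, bv_zero]
  | cons a l ih =>
    intro sel S h
    have h' := ih (sel / 2) S fun b hb => h b (List.mem_cons_of_mem _ hb)
    rw [combo]
    cases Nat.beq (sel % 2) 1
    · exact h'
    · rw [cond_true, bv_xor]; exact S.add_mem (h a List.mem_cons_self) h'

theorem bv_pivCombo : ∀ (l : List (ℕ × ℕ × ℕ)) (x : ℕ) (S : Submodule F (D.Idx → F)),
    (∀ b ∈ l, bv D F b.1 ∈ S) → bv D F (pivCombo l x) ∈ S := by
  intro l
  induction l with
  | nil => intro x S _; simp [pivCombo, bv_zero]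
  | cons b l ih =>
    intro x S h
    have h' := ih x S fun b hb => h b (List.mem_cons_of_mem _ hb)
    rw [pivCombo]
    cases x.testBit b.2.1
    · exact h'
    · rw [cond_true, bv_xor]; exact S.add_mem (h b List.mem_cons_self) h'

theorem rank_eq_of_rankOK (hV : Valid D c) {L : List ℕ} {B : List (ℕ × ℕ × ℕ)} (h : rankOK c L B = true) :
    (((elT D L (1 : F) : GL D.Idx F) : Matrix D.Idx D.Idx F) - 1).rank = B.length := by
  simp only [rankOK, Bool.and_eq_true, allL_iff, allLt_iff, Nat.beq_eq] at h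
  obtain ⟨⟨⟨hL, hspan⟩, hB⟩, hdist⟩ := h
  have hL' : ∀ r ∈ L, r < D.nroots := fun r hr => by rw [← hV.nroots_eq]; simpa using hL r hr
  set M : Matrix D.Idx D.Idx F := ((elT D L (1 : F) : GL D.Idx F) : Matrix D.Idx D.Idx F) - 1 with hM
  set wd : List (ℕ × Pol) := L.map fun r => (r, [((1 : ℤ), ((0, 0, 0) : Mon))]) with hwd
  have hy : ((elT D L (1 : F) : GL D.Idx F) : Matrix D.Idx D.Idx F) = polWordMat D 1 1 1 wd := by
    rw [hwd]
    clear hwd wd hM M hspan hB hdist hL
    induction L with
    | nil => simp [elT, polWordMat]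
    | cons r L ih =>
      have e : elT D (r :: L) (1 : F) = xg D F r 1 * elT D L 1 := by simp [elT]
      rw [e, Units.val_mul, ih fun x hx => hL' x (List.mem_cons_of_mem _ hx), (good' hV).coe_xg]
      simp [polWordMat, polVal, monVal]
  set cm : ℕ → ℕ := fun i => Nat.xor (2 ^ i) (maskV (c.evalWord false wd i)) with hcm
  have hcols : colMasks c L = (List.range (c.rank + c.nroots)).map cm := rfl
  have hcol : ∀ k : D.Idx, M *ᵥ Pi.single k 1 = bv D F (cm (idxNat k)) := by
    intro k
    rw [← bvec_idxNat, hM, Matrix.sub_mulVec, Matrix.one_mulVec, hy,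
      hV.evalWord_sound (inv := false) (by simp) wd (by
        intro l hl; simp only [hwd, List.mem_map] at hl; obtain ⟨r, hr, rfl⟩ := hl; exact hL' r hr),
      vecVal_mask, hcm, bv_xor, bv_two_pow]
    funext j
    simp only [Pi.sub_apply, Pi.add_apply, CharTwo.sub_eq_add, add_comm]
  set S : Submodule F (D.Idx → F) := Submodule.span F (Set.range fun i : Fin B.length => bv D F (B[i.1]).1)
  have hrange : LinearMap.range M.mulVecLin = S := by
    refine le_antisymm ?_ ?_
    · rw [Matrix.range_mulVecLin, Submodule.span_le]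
      rintro _ ⟨k, rfl⟩
      have e : M.col k = M *ᵥ Pi.single k 1 := by simp [Matrix.mulVec_single_one]
      rw [SetLike.mem_coe, e, hcol, ← hspan (cm (idxNat k)) (by
        rw [hcols, List.mem_map]
        refine ⟨idxNat k, List.mem_range.2 ?_, rfl⟩
        rw [hV.rank_eq, hV.nroots_eq]; exact idxNat_lt k)]
      refine bv_pivCombo B _ S fun b hb => ?_
      obtain ⟨i, hi, rfl⟩ := List.getElem_of_mem hb
      exact Submodule.subset_span ⟨⟨i, hi⟩, rfl⟩
    · rw [Submodule.span_le]
      rintro _ ⟨i, rfl⟩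
      have hb := (hB (B[i.1]) (List.getElem_mem _)).1.1
      simp only [SetLike.mem_coe]
      rw [← hb]
      refine bv_combo _ _ _ fun a ha => ?_
      rw [hcols, List.mem_map] at ha
      obtain ⟨j, hj, rfl⟩ := ha
      have hj' : j < D.rank + D.nroots := by rw [← hV.rank_eq, ← hV.nroots_eq]; exact List.mem_range.1 hj
      obtain ⟨k, rfl⟩ := exists_idxNat hj'
      exact ⟨Pi.single k 1, hcol k⟩
  have hind : LinearIndependent F fun i : Fin B.length => bv D F (B[i.1]).1 := by
    rw [Fintype.linearIndependent_iff]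
    intro g hg i
    obtain ⟨⟨-, hlt⟩, hpiv⟩ := hB (B[i.1]) (List.getElem_mem _)
    obtain ⟨k, hk⟩ := exists_idxNat (D := D) (idx := (B[i.1]).2.1) (by
      rw [← hV.rank_eq, ← hV.nroots_eq]; simpa using hlt)
    have := congrFun hg k
    simp only [Finset.sum_apply, Pi.smul_apply, smul_eq_mul, Pi.zero_apply] at this
    rw [Finset.sum_eq_single i] at this
    · have h1 := hpiv (B[i.1]) (List.getElem_mem _)
      rw [Nat.beq_refl, cond_true] at h1
      simpa [bv, hk, h1] using this
    · intro j _ hji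
      have hne : (B[j.1]).2.1 ≠ (B[i.1]).2.1 := by
        have hd : ∀ a b : ℕ, (ha : a < B.length) → (hb : b < B.length) → b < a → (B[a]).2.1 ≠ (B[b]).2.1 := by
          intro a b ha hb hab e
          have := hdist a ha b hab
          rw [List.getD_eq_getElem _ _ ha, List.getD_eq_getElem _ _ hb, e, Nat.beq_refl] at this
          exact absurd this (by simp)
        rcases lt_trichotomy j.1 i.1 with h | h | h
        · exact fun e => hd i.1 j.1 i.2 j.2 h e.symm
        · exact absurd (Fin.ext h) hji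
        · exact hd j.1 i.1 j.2 i.2 h
      have h1 := (hB (B[j.1]) (List.getElem_mem _)).2 (B[i.1]) (List.getElem_mem _)
      have h0 : Nat.beq (B[j.1]).2.1 (B[i.1]).2.1 = false := by
        cases e : Nat.beq (B[j.1]).2.1 (B[i.1]).2.1
        · rfl
        · exact absurd (Nat.eq_of_beq_eq_true e) hne
      rw [h0, cond_false, Bool.not_eq_true'] at h1
      simp [bv, hk, h1]
    · simp
  rw [Matrix.rank, hrange, finrank_span_eq_card hind, Fintype.card_fin]

omit [CharP F 2] in
/-- conjugate elements have displacement of the same rank -/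
theorem rank_conj (h y : GL D.Idx F) :
    (((h * y * h⁻¹ : GL D.Idx F) : Matrix D.Idx D.Idx F) - 1).rank = ((y : Matrix D.Idx D.Idx F) - 1).rank := by
  have e : ((h * y * h⁻¹ : GL D.Idx F) : Matrix D.Idx D.Idx F) - 1 =
      (h : Matrix D.Idx D.Idx F) * ((y : Matrix D.Idx D.Idx F) - 1) * ((h⁻¹ : GL D.Idx F) : Matrix D.Idx D.Idx F) := by
    simp [Matrix.mul_sub, Matrix.sub_mul, Units.val_mul]
  rw [e, Matrix.rank_mul_eq_left_of_isUnit_det _ _ ((Matrix.isUnit_iff_isUnit_det _).1 (h⁻¹).isUnit),
    Matrix.rank_mul_eq_right_of_isUnit_det _ _ ((Matrix.isUnit_iff_isUnit_det _).1 h.isUnit)]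

end Cfsg.Agent.ChevInvol
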